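import Cfsg.Agent.H6.QO.Frame
import Cfsg.Agent.H51.Tools

/-!
# Ore's theorem for quasisimple groups: one good element (helper90)

* `exists_lift` : the homomorphism of a universal cover onto another perfect central extension is over the base group;
* `isC_all_of_pairs` : in the commutator subgroup of a central extension `q : Y → K` whose kernel there is generated by `z`, with an
  element `x0 ~ x0 z`, it is enough that every element of `K` is the image under an automorphism of a commutator whose first member is a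
  conjugate of `q x0`: `rowA_of_pairs`.
-/

set_option autoImplicit false
set_option linter.unusedVariables false

namespace Cfsg.Agent.H90.QS

open Subgroup Cfsg.Agent.H51.Mult Cfsg.Agent.H51.Tools Cfsg.Agent.H777.Ore Cfsg.Agent.H6.QO

universe u v w x

/-- A perfect central extension whose kernel has the order of the multiplier maps onto every other one, over the base. -/
theorem exists_lift {K : Type v} [Group K] {A : Type w} [CommGroup A] (h : Cfsg.HasSchurMultiplier K A) {Γ : Type u}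
    [Group Γ] {σ : Γ →* K} (hσ : PCE σ) (hc : Nat.card σ.ker = Nat.card A) {L : Type x} [Group L] {π : L →* K}
    (hπ : PCE π) : ∃ θ : Γ →* L, Function.Surjective θ ∧ ∀ y, π (θ y) = σ y := by
  obtain ⟨D, _, f, g, hf, hg, hfg, hD, -⟩ := Cfsg.Agent.H68.Bounds.exists_common hσ hπ
  have hA : Finite A := Cfsg.Agent.H487.finite_multiplier h
  have h1 := H990.TC.card_ker_dvd h hD
  rw [Cfsg.Agent.H68.Bounds.card_ker_comp hf.surj, hc] at h1
  have h3 : 0 < Nat.card A := Nat.card_pos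
  have h4 : Nat.card f.ker ∣ 1 := by
    apply Nat.dvd_of_mul_dvd_mul_left h3
    rw [mul_one]; exact h1
  have h2 : Function.Injective f := by
    rw [← MonoidHom.ker_eq_bot_iff]
    exact Subgroup.eq_bot_of_card_eq _ (Nat.dvd_one.1 h4)
  let e : D ≃* Γ := MulEquiv.ofBijective f ⟨h2, hf.surj⟩
  refine ⟨g.comp e.symm.toMonoidHom, hg.surj.comp e.symm.surjective, fun y => ?_⟩
  have h5 : σ (f (e.symm y)) = π (g (e.symm y)) := congrArg (fun φ => φ (e.symm y)) hfg
  have h6 : f (e.symm y) = y := e.apply_symm_apply y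
  rw [h6] at h5
  exact h5.symm

variable {K : Type} [Group K] {Y : Type} [Group Y] [Finite Y] {q : Y →* K}

/-- **Ore for all perfect central extensions of `K` from one element conjugate to all its central multiples.** -/
theorem rowA_of_pairs (hq : Function.Surjective q) (hz : q.ker ≤ center Y) (hK : commutator K = ⊤) {n : ℕ}
    (hA : Cfsg.HasCyclicSchurMultiplier K n) {z : Y} (hzc : z ∈ commutator Y) (hz1 : q z = 1) (hn : orderOf z = n)
    {x0 c0 : Y} (hc0 : c0 * x0 * c0⁻¹ = x0 * z)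
    (hcov : ∀ g : K, ∃ (α : K ≃* K) (u k : K),
      g = α (u * q x0 * u⁻¹ * k * (u * q x0 * u⁻¹)⁻¹ * k⁻¹)) : RowA K := by
  have hπ := pce_of_central hq hz hK
  set π : ↥(commutator Y) →* K := q.comp (commutator Y).subtype with hπd
  -- the kernel
  have hn0 : 0 < n := hn ▸ orderOf_pos z
  have : NeZero n := ⟨hn0.ne'⟩
  have hcA : Nat.card (Multiplicative (ZMod n)) = n := by
    rw [Nat.card_congr Multiplicative.toAdd, Nat.card_zmod]
  have hd1 : Nat.card π.ker ∣ n := by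
    have := H990.TC.card_ker_dvd hA hπ
    rwa [hcA] at this
  set zU : ↥(commutator Y) := ⟨z, hzc⟩ with hzU
  have hzk : zU ∈ π.ker := hz1
  have ho : orderOf zU = n := by rw [← hn, ← Subgroup.orderOf_coe]
  have hle : zpowers zU ≤ π.ker := by rw [zpowers_le]; exact hzk
  have hcz : Nat.card (zpowers zU) = n := by rw [Nat.card_zpowers, ho]
  have hker : zpowers zU = π.ker := by
    apply Subgroup.eq_of_le_of_card_ge hle
    rw [hcz]
    exact Nat.le_of_dvd hn0 hd1
  have hcard : Nat.card π.ker = Nat.card (Multiplicative (ZMod n)) := by rw [← hker, hcz, hcA]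
  -- the elements in the commutator subgroup
  obtain ⟨d, hd, ζ, hζ, hx0⟩ := exists_factor hq hK x0
  obtain ⟨e, he, ζ', hζ', hc0'⟩ := exists_factor hq hK c0
  have hconj : e * d * e⁻¹ = d * z := by
    have c1 : ∀ y, ζ * y = y * ζ := fun y => (mem_center_iff.1 (hz hζ) y).symm
    have c2 : ∀ y, ζ' * y = y * ζ' := fun y => (mem_center_iff.1 (hz hζ') y).symm
    have h1 : (e * ζ') * (d * ζ) * (e * ζ')⁻¹ = e * d * e⁻¹ * ζ := by
      calc (e * ζ') * (d * ζ) * (e * ζ')⁻¹ = e * (ζ' * (d * ζ)) * (ζ'⁻¹ * e⁻¹) := by group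
        _ = e * ((d * ζ) * ζ') * (ζ'⁻¹ * e⁻¹) := by rw [c2]
        _ = e * d * (ζ * e⁻¹) := by group
        _ = e * d * (e⁻¹ * ζ) := by rw [c1]
        _ = e * d * e⁻¹ * ζ := by group
    rw [hx0, hc0'] at hc0
    have h2 : e * d * e⁻¹ * ζ = d * z * ζ := by
      rw [← h1, hc0, mul_assoc, c1 z, mul_assoc]
    exact mul_right_cancel h2
  have hqx : q x0 = q d := by rw [hx0, map_mul, hζ, mul_one]
  refine RowA.of_univ hA hπ hcard ?_
  intro g
  obtain ⟨α, a, k, h⟩ := hcov (π g)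
  obtain ⟨θ, hθ, hθ'⟩ := exists_lift hA (hπ.congr α) (by rw [ker_congr]; exact hcard) hπ
  obtain ⟨g', rfl⟩ := hθ g
  have h1 : α (π g') = α (a * q x0 * a⁻¹ * k * (a * q x0 * a⁻¹)⁻¹ * k⁻¹) := by
    rw [← h]; exact (hθ' g').symm
  have h2 := α.injective h1
  suffices hC : IsC g' from hC.map θ
  obtain ⟨u, hu⟩ := hπ.surj a
  have hπd : π ⟨d, hd⟩ = q x0 := hqx.symm
  refine isC_of_pair_zpowers (x := u * ⟨d, hd⟩ * u⁻¹) (k := k) hπ.surj hπ.cen (z := zU)
    (fun y hy => by rw [hker]; exact hy) hz1 ?_ ?_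
  · rw [map_mul, map_mul, map_inv, hu, hπd]
    exact h2
  · have h3 : (⟨e, he⟩ : ↥(commutator Y)) * ⟨d, hd⟩ * (⟨e, he⟩)⁻¹ = ⟨d, hd⟩ * zU := Subtype.ext hconj
    have h4 : IsConj (⟨d, hd⟩ : ↥(commutator Y)) (⟨d, hd⟩ * zU) := isConj_iff.2 ⟨_, h3⟩
    have h5 : IsConj (u * ⟨d, hd⟩ * u⁻¹) (u * (⟨d, hd⟩ * zU) * u⁻¹) := by
      have h6 : IsConj (⟨d, hd⟩ : ↥(commutator Y)) (u * ⟨d, hd⟩ * u⁻¹) := isConj_iff.2 ⟨u, rfl⟩
      have h7 : IsConj (⟨d, hd⟩ * zU : ↥(commutator Y)) (u * (⟨d, hd⟩ * zU) * u⁻¹) := isConj_iff.2 ⟨u, rfl⟩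
      exact h6.symm.trans (h4.trans h7)
    have h8 : u * (⟨d, hd⟩ * zU) * u⁻¹ = u * ⟨d, hd⟩ * u⁻¹ * zU := by
      have hzc := mem_center_iff.1 (hπ.cen hzk) u⁻¹
      calc u * (⟨d, hd⟩ * zU) * u⁻¹ = u * ⟨d, hd⟩ * (zU * u⁻¹) := by group
        _ = u * ⟨d, hd⟩ * (u⁻¹ * zU) := by rw [hzc]
        _ = u * ⟨d, hd⟩ * u⁻¹ * zU := by group
    rwa [h8] at h5

end Cfsg.Agent.H90.QS
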