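import Cfsg.Agent.H763.Ore.SuzFin
import Cfsg.Agent.H58.SuzRep
import Cfsg.Agent.H90.QS.Frame
import Cfsg.Agent.S2048

/-!
# Ore's theorem for the perfect central extensions of the Suzuki group (helper90)

`x0` (order 6, the representative 15 of the class list) is conjugate to all its six central multiples in `6.Suz`
(12 x 12 matrices over the field with 7 elements, `H58/SuzRep`), and every representative of the class list is a commutator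
`[u x0 u⁻¹, k]`.
-/

set_option autoImplicit false
set_option maxRecDepth 100000
set_option exponentiation.threshold 5000

namespace Cfsg.Agent.H90.QS.Suz

open Subgroup Cfsg.Agent.H51.Mult Cfsg.Agent.H777.Ore Cfsg.Agent.H6.QO Cfsg.Agent.H123.Cls
open Cfsg.Agent.H763.Ore.SuzModel Cfsg.Agent.H763.Ore.SuzTab Cfsg.Agent.H763.Ore.SuzWord
open Cfsg.Agent.OddHalf.Table.SuzRep (ψ ψ_val ψ_injective)
open Cfsg.Agent.SporadicRecognition.SuzOrder (el eq_one_of_fix)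
open Cfsg.Agent.SuzThree.Basic (el_append el_reverse)
open scoped commutatorElement

/-- the word of `x0` -/
def X0 : List ℕ := [2, 4, 1, 0, 3, 1, 6, 0, 1, 4, 2, 6, 1, 3]

/-- conjugators -/
def cU : ℕ → List ℕ
  | 0 => [1, 0]
  | 1 => []
  | 2 => [2, 3, 2]
  | 3 => [4, 2, 1, 0, 1]
  | 4 => [6, 1, 2]
  | 5 => [6, 3, 4, 2]
  | 6 => []
  | 7 => [6, 4, 2, 1]
  | 8 => [5, 3, 4, 3, 0]
  | 9 => [6, 1, 5, 1]
  | 10 => []
  | 11 => [4]
  | 12 => [2, 3]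
  | 13 => [2, 3, 1]
  | 14 => [2, 3, 2, 0]
  | 15 => [6, 3, 1, 0]
  | 16 => [4, 1]
  | 17 => [6]
  | 18 => [6, 2, 3]
  | 19 => [6, 4, 2, 3]
  | 20 => [2, 3]
  | 21 => [2, 1, 6, 3]
  | 22 => [0, 1, 6, 5]
  | 23 => [1, 6, 0, 1, 0]
  | 24 => [5, 6, 1, 5]
  | 25 => [6, 3, 4, 0]
  | 26 => [2, 3, 4, 3]
  | 27 => [5, 2, 1]
  | 28 => [4]
  | 29 => [1, 6, 3, 2, 0]
  | 30 => [1, 5, 1, 6]
  | 31 => [3, 0, 1, 2, 3, 1]
  | 32 => [1, 2, 3, 0]
  | 33 => [1, 6, 3, 2, 0]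
  | 34 => [2, 3, 4]
  | 35 => [1, 0]
  | 36 => [4, 2, 3, 2]
  | _ => []

/-- second members -/
def cK : ℕ → List ℕ
  | 0 => [1, 4, 3, 6, 1, 2, 6, 3, 4, 0, 1, 0, 1, 6]
  | 1 => []
  | 2 => [3, 2, 3, 0, 1, 2, 0, 6, 5, 1, 0, 1, 5, 1, 3, 6, 1, 4, 5, 1, 0, 1, 2, 3, 4, 2, 1, 0, 6, 1, 0, 6, 3]
  | 3 => [6, 1, 5, 2, 4, 1, 0, 1, 6, 4, 3, 2, 5, 3, 4, 1, 5, 2, 3, 4, 1, 6, 0, 4, 3, 2, 1, 0, 1, 5, 1, 5, 4, 3, 2, 1, 6, 3, 2, 3, 4]
  | 4 => [5, 6, 1, 5, 4, 6, 1, 5, 1, 6, 0, 1, 0, 1, 2, 0, 2, 4, 1, 6, 2, 3, 5, 2, 1, 6, 5, 2, 1, 3, 4, 2, 6, 3]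
  | 5 => [3, 2, 0, 3, 1, 2, 3, 2, 0, 2, 6, 4, 3, 1, 0, 1, 4, 6, 2, 3, 1, 0, 6, 0, 1, 2, 0, 1, 5, 2]
  | 6 => [1, 0, 4, 3, 2, 6, 1, 0, 1, 6, 2, 6, 1, 6, 3, 4]
  | 7 => [1, 3, 4, 6, 3, 2, 1, 0, 6, 1, 5, 0, 2, 5, 1, 0, 2, 1, 0, 6]
  | 8 => [3, 4, 1, 0, 3, 4, 6, 3, 2, 1, 0, 5, 1, 2, 3, 4, 3, 0, 4, 3, 2, 1, 6, 5, 3, 2, 3, 1, 2, 3, 4, 0, 2, 3]
  | 9 => [6, 1, 4, 2, 5, 3, 2, 6, 5, 1, 0, 1, 5, 6, 1, 3, 2, 5, 1, 0, 2, 1, 0, 5, 1, 2, 3, 2, 1, 5]
  | 10 => [3, 4, 1, 2, 3, 4, 3, 2, 1, 3, 0, 4, 6, 1, 2, 3, 4, 0, 1, 2, 6, 1, 0, 1, 5, 6]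
  | 11 => [1, 2, 3, 4, 2, 3, 4, 3, 2, 3, 5, 4, 3, 0, 2, 3, 1, 6, 0, 1, 2, 0, 4, 1, 3, 2, 6, 3, 4, 1]
  | 12 => [6, 4, 1, 2, 6, 1, 0, 1, 6, 5, 2, 5, 1, 2, 6, 3, 2, 1, 0, 1, 0, 1, 3, 4, 3, 2, 1]
  | 13 => [4, 3, 6, 2, 1, 0, 2, 1, 4, 6, 1, 2, 3, 4, 2, 0]
  | 14 => [1]
  | 15 => [6, 4, 1, 2, 1, 0, 1, 4, 3, 2, 6, 1, 5, 3, 4, 2, 5, 1, 2, 6, 3, 2, 1, 0, 1, 0, 1, 3, 4, 3, 2, 1]
  | 16 => [1, 2, 0, 1, 2, 4, 3, 2, 0, 4, 2, 3, 4, 6, 3, 2, 1, 2, 0, 1, 5, 2, 3]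
  | 17 => [1, 3, 1, 6, 5, 2, 3, 1, 5, 4, 3, 2, 1, 0, 1, 2, 3, 4]
  | 18 => [0, 1, 2, 4, 3, 2, 0, 2, 4, 3, 2, 1, 6, 4, 1]
  | 19 => [3, 4, 1, 2, 1, 0, 4, 3, 1, 0, 1, 6, 2, 3, 4, 1, 2, 1, 5, 1, 6, 4, 6, 1, 3, 2, 3, 4, 2, 3, 6, 1, 0, 3, 2, 5, 3, 1, 2, 3, 4, 0]
  | 20 => [2, 1, 5, 2, 6, 4, 2, 3, 4, 6, 1, 0, 3, 1, 6, 0, 2]
  | 21 => [5, 4, 1, 6, 3, 2, 3, 5, 1, 2, 5, 1, 3, 2, 5, 6, 1, 3, 5]
  | 22 => [1, 5, 3, 1, 2, 0, 4, 1, 3, 2, 6, 1, 4, 0, 1, 2, 3, 4, 3, 6, 2, 1, 0, 1, 2, 0, 6, 3, 2, 1, 5, 2, 3]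
  | 23 => [6, 0, 1, 2, 3, 2, 4, 3, 2, 1, 5, 4, 3, 2, 1, 6, 3, 2, 3, 4, 5, 1, 0, 2, 3, 1, 0, 2, 4, 3, 6, 4, 1, 0, 1, 2, 0, 5, 1, 2, 6, 0, 1, 5]
  | 24 => [0, 1, 5, 0, 1, 2, 3, 2, 1, 0, 1, 5, 6, 1]
  | 25 => [3, 4, 1, 0, 5, 1, 3, 0, 6, 2, 1, 5, 0, 1, 2, 0, 1, 5, 2]
  | 26 => [1, 2, 0, 1, 5, 3, 0, 1, 2, 6, 1, 6, 3, 5, 2, 1, 0, 2, 1, 0, 3, 6, 2, 1, 0, 1, 2, 0, 6, 3, 2, 1, 5, 2, 3]
  | 27 => [2, 1, 5, 3, 2, 3, 1, 0, 2, 0, 1, 0, 4, 3, 1, 2, 6, 5, 1, 5, 3, 4, 1, 3, 0, 1, 2, 4, 3, 0, 1, 2, 0, 4, 3, 1, 2, 6, 1, 5, 6, 5, 1, 0, 1, 5]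
  | 28 => [3]
  | 29 => [0, 5, 1, 2, 5, 1, 2, 5, 0, 1, 0, 1, 0, 6, 0, 1, 2, 0, 1, 5, 2]
  | 30 => [4, 0, 1, 6, 5, 1, 2, 1, 4, 6, 3, 2, 1, 0, 5, 6, 5, 1, 2, 6, 5, 4, 1, 6, 3, 2, 3, 1, 4]
  | 31 => [2, 4, 3, 1, 2, 5, 1, 0, 4, 3, 2, 1, 6, 5, 3, 2, 6, 4, 3, 1, 2, 3, 4, 1, 3, 6, 2, 1, 6, 5, 1, 2, 3, 2, 1, 5, 6, 1, 6, 2, 3]
  | 32 => [5, 4, 2, 0, 1, 4, 0, 3, 1, 2, 1, 5, 0, 3, 4, 1, 6, 0, 1, 2, 0, 1, 5, 2]
  | 33 => [5, 6, 1, 0, 5, 1, 2, 6, 1, 5, 6, 0, 1, 2, 0, 1, 5, 2]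
  | 34 => [1, 2, 1, 2, 4, 3, 2, 6, 0, 1, 6, 5, 2, 4, 2, 5, 1, 0, 2, 1, 0, 6]
  | 35 => [1, 3, 0, 6, 2, 3, 1, 0, 2, 3, 2, 1, 0, 1, 6, 3, 2, 1, 0, 3, 6, 2, 3, 1, 0, 1, 2, 4, 3, 2, 1]
  | 36 => [4, 2, 1, 2, 3, 2, 1, 0, 5, 1, 2, 1, 0, 1, 0, 6, 5, 1, 2, 3, 2, 1, 5, 1, 6, 0, 1, 3, 2, 6, 1, 0, 1, 2]
  | _ => []

/-- a word fixes the point -/
noncomputable def fx (l : List ℕ) (p : ℕ) : Bool := Nat.beq (evw 11 tabs l p) p

/-- a word fixes the five base points -/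
noncomputable def fix5 (l : List ℕ) : Bool :=
  band (chkL 7 l) (band (fx l 14) (band (fx l 98) (band (fx l 1) (band (fx l 1575) (fx l 0)))))

theorem fx_spec {l : List ℕ} (hl : ∀ x ∈ l, x < 7) {p : ℕ} (hp : p < 1782) (h : fx l p = true) :
    SporadicRecognition.SuzPhi.φ (el (l.map lt7)) p = p := by
  have h1 := ψ_word hl ⟨p, hp⟩
  rw [ψ_val] at h1
  exact h1.trans (Nat.eq_of_beq_eq_true h)

theorem one_of_fix5 {l : List ℕ} (h : fix5 l = true) : el (l.map lt7) = 1 := by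
  obtain ⟨h0, h⟩ := band_true h
  obtain ⟨h1, h⟩ := band_true h
  obtain ⟨h2, h⟩ := band_true h
  obtain ⟨h3, h⟩ := band_true h
  obtain ⟨h4, h5⟩ := band_true h
  have hl := chkL_iff 7 l h0
  apply eq_one_of_fix
  intro q hq
  simp only [List.mem_cons, List.not_mem_nil, or_false] at hq
  rcases hq with rfl | rfl | rfl | rfl | rfl
  · exact fx_spec hl (by norm_num) h1
  · exact fx_spec hl (by norm_num) h2
  · exact fx_spec hl (by norm_num) h3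
  · exact fx_spec hl (by norm_num) h4
  · exact fx_spec hl (by norm_num) h5

/-- the relation -/
def rel (a b u k : List ℕ) : List ℕ :=
  (a ++ b ++ a.reverse ++ b.reverse) ++ (k ++ (u ++ X0 ++ u.reverse) ++ k.reverse ++ (u ++ X0.reverse ++ u.reverse))

/-- `el` of a numbered word -/
noncomputable def e (l : List ℕ) : Spor.Suz := el (l.map lt7)

theorem e_append (l m : List ℕ) : e (l ++ m) = e l * e m := by rw [e, List.map_append, el_append]; rfl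

theorem e_reverse (l : List ℕ) : e l.reverse = (e l)⁻¹ := by rw [e, List.map_reverse, el_reverse]; rfl

theorem of_rel {a b u k : List ℕ} (h : fix5 (rel a b u k) = true) :
    e a * e b * (e a)⁻¹ * (e b)⁻¹ = e u * e X0 * (e u)⁻¹ * e k * (e u * e X0 * (e u)⁻¹)⁻¹ * (e k)⁻¹ := by
  have h1 : e (rel a b u k) = 1 := one_of_fix5 h
  simp only [rel, e_append, e_reverse] at h1
  have h2 : e a * e b * (e a)⁻¹ * (e b)⁻¹ =
      (e k * (e u * e X0 * (e u)⁻¹) * (e k)⁻¹ * (e u * (e X0)⁻¹ * (e u)⁻¹))⁻¹ := eq_inv_of_mul_eq_one_left h1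
  rw [h2]
  group

theorem r0 : fix5 (rel (nA 0) (nB 0) (cU 0) (cK 0)) = true := by decide +kernel
theorem r1 : fix5 (rel (nA 1) (nB 1) (cU 1) (cK 1)) = true := by decide +kernel
theorem r2 : fix5 (rel (nA 2) (nB 2) (cU 2) (cK 2)) = true := by decide +kernel
theorem r3 : fix5 (rel (nA 3) (nB 3) (cU 3) (cK 3)) = true := by decide +kernel
theorem r4 : fix5 (rel (nA 4) (nB 4) (cU 4) (cK 4)) = true := by decide +kernel
theorem r5 : fix5 (rel (nA 5) (nB 5) (cU 5) (cK 5)) = true := by decide +kernel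
theorem r6 : fix5 (rel (nA 6) (nB 6) (cU 6) (cK 6)) = true := by decide +kernel
theorem r7 : fix5 (rel (nA 7) (nB 7) (cU 7) (cK 7)) = true := by decide +kernel
theorem r8 : fix5 (rel (nA 8) (nB 8) (cU 8) (cK 8)) = true := by decide +kernel
theorem r9 : fix5 (rel (nA 9) (nB 9) (cU 9) (cK 9)) = true := by decide +kernel
theorem r10 : fix5 (rel (nA 10) (nB 10) (cU 10) (cK 10)) = true := by decide +kernel
theorem r11 : fix5 (rel (nA 11) (nB 11) (cU 11) (cK 11)) = true := by decide +kernel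
theorem r12 : fix5 (rel (nA 12) (nB 12) (cU 12) (cK 12)) = true := by decide +kernel
theorem r13 : fix5 (rel (nA 13) (nB 13) (cU 13) (cK 13)) = true := by decide +kernel
theorem r14 : fix5 (rel (nA 14) (nB 14) (cU 14) (cK 14)) = true := by decide +kernel
theorem r15 : fix5 (rel (nA 15) (nB 15) (cU 15) (cK 15)) = true := by decide +kernel
theorem r16 : fix5 (rel (nA 16) (nB 16) (cU 16) (cK 16)) = true := by decide +kernel
theorem r17 : fix5 (rel (nA 17) (nB 17) (cU 17) (cK 17)) = true := by decide +kernel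
theorem r18 : fix5 (rel (nA 18) (nB 18) (cU 18) (cK 18)) = true := by decide +kernel
theorem r19 : fix5 (rel (nA 19) (nB 19) (cU 19) (cK 19)) = true := by decide +kernel
theorem r20 : fix5 (rel (nA 20) (nB 20) (cU 20) (cK 20)) = true := by decide +kernel
theorem r21 : fix5 (rel (nA 21) (nB 21) (cU 21) (cK 21)) = true := by decide +kernel
theorem r22 : fix5 (rel (nA 22) (nB 22) (cU 22) (cK 22)) = true := by decide +kernel
theorem r23 : fix5 (rel (nA 23) (nB 23) (cU 23) (cK 23)) = true := by decide +kernel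
theorem r24 : fix5 (rel (nA 24) (nB 24) (cU 24) (cK 24)) = true := by decide +kernel
theorem r25 : fix5 (rel (nA 25) (nB 25) (cU 25) (cK 25)) = true := by decide +kernel
theorem r26 : fix5 (rel (nA 26) (nB 26) (cU 26) (cK 26)) = true := by decide +kernel
theorem r27 : fix5 (rel (nA 27) (nB 27) (cU 27) (cK 27)) = true := by decide +kernel
theorem r28 : fix5 (rel (nA 28) (nB 28) (cU 28) (cK 28)) = true := by decide +kernel
theorem r29 : fix5 (rel (nA 29) (nB 29) (cU 29) (cK 29)) = true := by decide +kernel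
theorem r30 : fix5 (rel (nA 30) (nB 30) (cU 30) (cK 30)) = true := by decide +kernel
theorem r31 : fix5 (rel (nA 31) (nB 31) (cU 31) (cK 31)) = true := by decide +kernel
theorem r32 : fix5 (rel (nA 32) (nB 32) (cU 32) (cK 32)) = true := by decide +kernel
theorem r33 : fix5 (rel (nA 33) (nB 33) (cU 33) (cK 33)) = true := by decide +kernel
theorem r34 : fix5 (rel (nA 34) (nB 34) (cU 34) (cK 34)) = true := by decide +kernel
theorem r35 : fix5 (rel (nA 35) (nB 35) (cU 35) (cK 35)) = true := by decide +kernel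
theorem r36 : fix5 (rel (nA 36) (nB 36) (cU 36) (cK 36)) = true := by decide +kernel

theorem all_rel (i : Fin 37) : fix5 (rel (nA i) (nB i) (cU i) (cK i)) = true := by
  fin_cases i
  · exact r0
  · exact r1
  · exact r2
  · exact r3
  · exact r4
  · exact r5
  · exact r6
  · exact r7
  · exact r8
  · exact r9
  · exact r10
  · exact r11
  · exact r12
  · exact r13
  · exact r14
  · exact r15
  · exact r16
  · exact r17
  · exact r18
  · exact r19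
  · exact r20
  · exact r21
  · exact r22
  · exact r23
  · exact r24
  · exact r25
  · exact r26
  · exact r27
  · exact r28
  · exact r29
  · exact r30
  · exact r31
  · exact r32
  · exact r33
  · exact r34
  · exact r35
  · exact r36

/-! ### the cover -/

open Cfsg.Agent.H58.SuzRep in
/-- the generators over the presented group -/
theorem q_s (x : Spor.Suz.Gen) : q (s x) = on x := by
  apply σ_injective
  rw [σ_q, σ_on]
  rfl

open Cfsg.Agent.H58.SuzRep in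
theorem q_word (w : List Spor.Suz.Gen) : q ((w.map s).prod) = el w := by
  rw [map_list_prod, List.map_map]
  congr 1
  apply List.map_congr_left
  intro x _
  exact q_s x

/-- the word of `x0` -/
def X0' : List Spor.Suz.Gen := [.c, .e, .b, .a, .d, .b, .g, .a, .b, .e, .c, .g, .b, .d]

/-- the word of the conjugator -/
def C0' : List Spor.Suz.Gen := [.f, .g, .b, .a, .f, .c, .d, .b, .c, .a, .e, .d, .c, .b, .a, .d, .c, .b, .a, .b, .f, .g, .d, .e, .g, .b, .f, .b, .a, .b, .a, .c, .b, .f, .g, .b, .d, .a, .c, .d, .b, .a, .e, .b, .g, .f, .d, .c, .b, .a, .d, .f, .c, .d, .b, .a, .c, .g, .f, .b, .c, .d, .c, .b, .f, .a, .b, .a, .d, .c, .b, .f, .g, .c]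

/-- packed scalar matrix 3 -/
def s3 : ℕ := 0xc0000000000000000000000000000000300000000000000000000000000000000c0000000000000000000000000000000300000000000000000000000000000000c0000000000000000000000000000000300000000000000000000000000000000c0000000000000000000000000000000300000000000000000000000000000000c0000000000000000000000000000000300000000000000000000000000000000c00000000000000000000000000000003

theorem X0_eq : X0.map lt7 = X0' := rfl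

open Cfsg.Agent.H58.SuzRep Cfsg.Agent.Lib.PackMat

theorem ok3 : okG C12 s3 = true := by decide +kernel

theorem chk3 : checkScalar C12 [s3] 3 0 12 = true := by decide +kernel

theorem mk3 : mk s3 = (3 : ZMod 7) • (1 : M12) := by
  have h := prod_scalar (c := 3) (by decide) (w := [s3])
    (fun g hg => by rw [List.mem_singleton] at hg; rw [hg]; exact ok3) chk3
  simp only [List.map_cons, List.map_nil, List.prod_cons, List.prod_nil, mul_one] at h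
  exact h

theorem chkC : Cfsg.Agent.Lib.PackMat.checkEq C12 (H58.SuzRep.W (C0' ++ X0')) (s3 :: H58.SuzRep.W (X0' ++ C0')) 0 12 = true := by
  decide +kernel

theorem comm_x0 : ((⁅(C0'.map u).prod, (X0'.map u).prod⁆ : M12ˣ) : M12) = (3 : ZMod 7) • (1 : M12) :=
  comm_of ok3 mk3 chkC

theorem comm_Y : ⁅(C0'.map s).prod, (X0'.map s).prod⁆ = z := by
  apply Subtype.ext
  apply Units.ext
  rw [coe_z, ← comm_x0, ← coe_s, ← coe_s]
  rfl

instance finite_Y : Finite Y := by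
  have : Finite M12ˣ := inferInstance
  infer_instance

/-- automorphisms induced by `A` -/
theorem exists_aut {a : Equiv.Perm (Fin 1782)} (ha : a ∈ A) : ∃ α : Spor.Suz ≃* Spor.Suz, ∀ g, ψ (α g) = a * ψ g * a⁻¹ := by
  have : Finite Spor.Suz := Nat.finite_of_card_ne_zero (by rw [Cfsg.Agent.SporadicRecognition.SuzOrder.card_Suz]; norm_num)
  have h1 : ∀ g : Spor.Suz, ∃ h : Spor.Suz, ψ h = a * ψ g * a⁻¹ := fun g => A_conj ha (⟨g, rfl⟩ : ψ g ∈ N)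
  choose f hf using h1
  let F : Spor.Suz →* Spor.Suz := MonoidHom.mk' f (by
    intro x y
    apply ψ_injective
    rw [map_mul, hf, hf, hf, map_mul]
    group)
  have hF : ∀ g, ψ (F g) = a * ψ g * a⁻¹ := hf
  have hinj : Function.Injective F := by
    intro x y hxy
    apply ψ_injective
    have h2 : a * ψ x * a⁻¹ = a * ψ y * a⁻¹ := by rw [← hF, ← hF, hxy]
    exact mul_left_cancel (mul_right_cancel h2)
  exact ⟨MulEquiv.ofBijective F ⟨hinj, Finite.surjective_of_injective hinj⟩, hF⟩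

theorem commutator_Suz : commutator Spor.Suz = ⊤ := by
  have hs : IsSimpleGroup Spor.Suz := S1694.result.1
  have hcard : Nat.card Spor.Suz = 448345497600 := S1694.result.2
  have : Finite Spor.Suz := Nat.finite_of_card_ne_zero (by rw [hcard]; norm_num)
  exact Cfsg.Agent.H51.Tools.perfect_of_simple hs (by rw [hcard]; norm_num)

/-- **Ore's theorem for the perfect central extensions of the Suzuki group.** -/
theorem rowA_Suz : RowA Spor.Suz := by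
  refine rowA_of_pairs q_surj q_ker commutator_Suz S2048.result z_mem q_z orderOf_z
    (x0 := (X0'.map s).prod) (c0 := (C0'.map s).prod) ?_ ?_
  · rw [← comm_Y, commutatorElement_def]
    -- the commutator is central
    have hz : (C0'.map s).prod * (X0'.map s).prod * (C0'.map s).prod⁻¹ * (X0'.map s).prod⁻¹ = z := by
      rw [← commutatorElement_def]; exact comm_Y
    have h2 : (C0'.map s).prod * (X0'.map s).prod * (C0'.map s).prod⁻¹ = z * (X0'.map s).prod := by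
      rw [← hz]; group
    rw [hz, h2]
    exact (mem_center_iff.1 (q_ker (MonoidHom.mem_ker.2 q_z)) _).symm
  · intro g
    obtain ⟨i, a, ha, h⟩ := H763.Ore.SuzFin.cover g
    obtain ⟨α, hα⟩ := exists_aut ha
    refine ⟨α, e (cU i), e (cK i), ?_⟩
    rw [q_word, ← X0_eq]
    apply ψ_injective
    rw [hα]
    have h1 := of_rel (all_rel i)
    change ψ g = a * ψ (e (nA i) * e (nB i) * (e (nA i))⁻¹ * (e (nB i))⁻¹) * a⁻¹ at h
    rw [h, h1]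
    rfl

end Cfsg.Agent.H90.QS.Suz
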